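import Groth.Prelude.Def_W4stkadequateTF
import Mathlib

/-! # The tangent functor: functoriality and exactness -/

set_option autoImplicit false
set_option backward.isDefEq.respectTransparency false
universe u

open CategoryTheory CategoryTheory.Limits AdeqTF

noncomputable section

namespace Groth.Agent.AdeqTFLib

variable {A : Type u} [CommRing A] (B : Adeq.Alg A) (F G : Adeq.MVF A)

lemma tangentMap_coe {N N' : ModuleCat.{u} B} (g : N ⟶ N') (x : tangent B N F) :
    (tangentMap B F g x).1 = F.map (Adeq.ptHom (AdeqTF.map B g)) x.1 := rfl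

lemma map_comp {N N' N'' : ModuleCat.{u} B} (f : N ⟶ N') (g : N' ⟶ N'') :
    AdeqTF.map B (f ≫ g) = AdeqTF.map B f ≫ AdeqTF.map B g := by
  apply CommAlgCat.hom_ext
  refine AlgHom.ext fun x => ?_
  show TrivSqZeroExt.map (f ≫ g).hom x = TrivSqZeroExt.map g.hom (TrivSqZeroExt.map f.hom x)
  rw [ModuleCat.hom_comp]
  exact (DFunLike.congr_fun (TrivSqZeroExt.map_comp_map f.hom g.hom) x)

lemma map_id (N : ModuleCat.{u} B) : AdeqTF.map B (𝟙 N) = 𝟙 (ext B N) := by
  apply CommAlgCat.hom_ext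
  refine AlgHom.ext fun x => ?_
  show TrivSqZeroExt.map (𝟙 N : N ⟶ N).hom x = x
  rw [ModuleCat.hom_id, TrivSqZeroExt.map_id]
  rfl

lemma map_zero' (N N' : ModuleCat.{u} B) : AdeqTF.map B (0 : N ⟶ N') = fst B N ≫ inl B N' := by
  apply CommAlgCat.hom_ext
  refine AlgHom.ext fun x => ?_
  show TrivSqZeroExt.map (0 : N ⟶ N').hom x = TrivSqZeroExt.inl (TrivSqZeroExt.fst x)
  refine TrivSqZeroExt.ext ?_ ?_
  · exact TrivSqZeroExt.fst_map _ x
  · exact TrivSqZeroExt.snd_map _ x

lemma inl_fst (N : ModuleCat.{u} B) : inl B N ≫ fst B N = 𝟙 B := by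
  apply CommAlgCat.hom_ext
  exact AlgHom.ext fun x => rfl

lemma tangentMap_comp {N N' N'' : ModuleCat.{u} B} (f : N ⟶ N') (g : N' ⟶ N'') (x : tangent B N F) :
    tangentMap B F g (tangentMap B F f x) = tangentMap B F (f ≫ g) x := by
  refine Subtype.ext ?_
  rw [tangentMap_coe, tangentMap_coe, tangentMap_coe, map_comp, ← F.map_comp_apply]
  rfl

lemma tangentMap_id (N : ModuleCat.{u} B) (x : tangent B N F) : tangentMap B F (𝟙 N) x = x := by
  refine Subtype.ext ?_
  rw [tangentMap_coe, map_id]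
  exact DFunLike.congr_fun (congrArg ModuleCat.Hom.hom (F.map_id (Adeq.pt (ext B N)))) x.1

lemma tangentMap_zero {N N' : ModuleCat.{u} B} (x : tangent B N F) :
    tangentMap B F (0 : N ⟶ N') x = 0 := by
  refine Subtype.ext ?_
  have hx : F.map (Adeq.ptHom (fst B N)) x.1 = 0 := x.2
  rw [tangentMap_coe, map_zero',
    show Adeq.ptHom (fst B N ≫ inl B N') = Adeq.ptHom (fst B N) ≫ Adeq.ptHom (inl B N') from rfl,
    F.map_comp_apply, hx]
  exact map_zero _

variable {F G}

/-- The map of tangent modules induced by a morphism of functors. -/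
def app (φ : F ⟶ G) (N : ModuleCat.{u} B) : tangent B N F →+ tangent B N G :=
  ((φ.app (Adeq.pt (ext B N))).hom.toAddMonoidHom.comp (tangent B N F).subtype).codRestrict _ fun x => by
    show G.map (Adeq.ptHom (fst B N)) (φ.app _ x.1) = 0
    rw [← PresheafOfModules.naturality_apply φ (Adeq.ptHom (fst B N)) x.1,
      show F.map (Adeq.ptHom (fst B N)) x.1 = 0 from x.2]
    exact map_zero _

lemma app_natural (φ : F ⟶ G) {N N' : ModuleCat.{u} B} (g : N ⟶ N') (x : tangent B N F) :
    tangentMap B G g (app B φ N x) = app B φ N' (tangentMap B F g x) :=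
  Subtype.ext (PresheafOfModules.naturality_apply φ (Adeq.ptHom (AdeqTF.map B g)) x.1).symm

lemma eval_shortExact'.{v, v₁, u₁, w} {C : Type u₁} [Category.{v₁} C] {R : Cᵒᵖ ⥤ RingCat.{w}}
    {S : ShortComplex (PresheafOfModules.{v} R)} (h : S.ShortExact) (X : Cᵒᵖ) :
    Function.Injective (S.f.app X) ∧ Function.Surjective (S.g.app X) ∧
      ∀ x, S.g.app X x = 0 → ∃ w, S.f.app X w = x := by
  have := h.map_of_exact (PresheafOfModules.evaluation.{v} R X)
  exact ⟨this.moduleCat_injective_f, this.moduleCat_surjective_g,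
    (ShortComplex.moduleCat_exact_iff _).mp this.exact⟩

section ShortExact

variable {C : ShortComplex (Adeq.MVF A)} (hC : C.ShortExact)

include hC in
lemma eval_shortExact (D : Adeq.Alg A) :
    Function.Injective (C.f.app (Adeq.pt D)) ∧ Function.Surjective (C.g.app (Adeq.pt D)) ∧
      ∀ x, C.g.app (Adeq.pt D) x = 0 → ∃ w, C.f.app (Adeq.pt D) w = x :=
  eval_shortExact' hC (Adeq.pt D)

include hC in
lemma app_injective (N : ModuleCat.{u} B) : Function.Injective (app B C.f N) := fun x y h =>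
  Subtype.ext ((eval_shortExact hC (ext B N)).1 (congrArg Subtype.val h))

include hC in
lemma app_surjective (N : ModuleCat.{u} B) : Function.Surjective (app B C.g N) := by
  intro y
  obtain ⟨x, hx⟩ := (eval_shortExact hC (ext B N)).2.1 y.1
  let z : ↑(C.X₂.obj (Adeq.pt (ext B N))) :=
    C.X₂.map (Adeq.ptHom (inl B N)) (C.X₂.map (Adeq.ptHom (fst B N)) x)
  have hz : C.X₂.map (Adeq.ptHom (fst B N)) z = C.X₂.map (Adeq.ptHom (fst B N)) x := by
    refine (C.X₂.map_comp_apply (Adeq.ptHom (inl B N)) (Adeq.ptHom (fst B N)) _).symm.trans ?_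
    rw [show Adeq.ptHom (inl B N) ≫ Adeq.ptHom (fst B N) = 𝟙 (Adeq.pt B) from congrArg Adeq.ptHom (inl_fst B N)]
    exact DFunLike.congr_fun (congrArg ModuleCat.Hom.hom (C.X₂.map_id (Adeq.pt B))) _
  refine ⟨⟨x - z, ?_⟩, Subtype.ext ?_⟩
  · show C.X₂.map (Adeq.ptHom (fst B N)) (x - z) = 0
    rw [map_sub, hz, sub_self]
  · show C.g.app _ (x - z) = y.1
    have h2 : C.g.app (Adeq.pt B) (C.X₂.map (Adeq.ptHom (fst B N)) x) = 0 := by
      refine (PresheafOfModules.naturality_apply C.g (Adeq.ptHom (fst B N)) x).trans ?_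
      rw [hx]
      exact y.2
    have h3 : C.g.app (Adeq.pt (ext B N)) z = 0 := by
      refine (PresheafOfModules.naturality_apply C.g (Adeq.ptHom (inl B N)) _).trans ?_
      rw [h2]
      exact map_zero _
    rw [map_sub, hx, h3, sub_zero]

include hC in
lemma exists_app_eq (N : ModuleCat.{u} B) (x : tangent B N C.X₂) (hx : app B C.g N x = 0) :
    ∃ w, app B C.f N w = x := by
  obtain ⟨w, hw⟩ := (eval_shortExact hC (ext B N)).2.2 x.1 (congrArg Subtype.val hx)
  refine ⟨⟨w, ?_⟩, Subtype.ext hw⟩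
  show C.X₁.map (Adeq.ptHom (fst B N)) w = 0
  refine (eval_shortExact hC B).1 ?_
  have h := PresheafOfModules.naturality_apply C.f (Adeq.ptHom (fst B N)) w
  refine h.trans (Eq.trans ?_ (map_zero _).symm)
  rw [show C.f.app (Adeq.pt (ext B N)) w = x.1 from hw]
  exact x.2

lemma app_app (N : ModuleCat.{u} B) (x : tangent B N C.X₁) : app B C.g N (app B C.f N x) = 0 := by
  refine Subtype.ext ?_
  show C.g.app _ (C.f.app _ x.1) = 0
  exact DFunLike.congr_fun (congrArg ModuleCat.Hom.hom
    (congrArg (fun φ : C.X₁ ⟶ C.X₃ => φ.app (Adeq.pt (ext B N))) C.zero)) x.1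

end ShortExact

/-- Right exactness of the tangent functor, as used below. -/
lemma ker_eq_range_of_le (F : Adeq.MVF A) (S : ShortComplex (ModuleCat.{u} B))
    (h : ∀ x, tangentMap B F S.g x = 0 → ∃ w, tangentMap B F S.f w = x) :
    (tangentMap B F S.g).ker = (tangentMap B F S.f).range := by
  refine le_antisymm (fun x hx => h x hx) ?_
  rintro _ ⟨w, rfl⟩
  show tangentMap B F S.g (tangentMap B F S.f w) = 0
  rw [tangentMap_comp, S.zero, tangentMap_zero]

end Groth.Agent.AdeqTFLib
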