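import Groth.Agent.AdeqTFLib.Basic
import Mathlib

/-! # Free functors on representables; injective functors take injections to surjections -/

set_option autoImplicit false
set_option backward.isDefEq.respectTransparency false
universe u

open CategoryTheory CategoryTheory.Limits AdeqTF

noncomputable section

namespace Groth.Agent.AdeqTFLib

variable {A : Type u} [CommRing A]

/-- The values of the free functor on a representable. -/
abbrev RV (E D : Adeq.Alg A) : Type (u + 1) := (E ⟶ D) →₀ ULift.{u + 1} (D : Type u)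

/-- transition -/
def rvMap (E : Adeq.Alg A) {D D' : Adeq.Alg A} (g : D ⟶ D') : RV E D →+ RV E D' :=
  Finsupp.liftAddHom fun h => (Finsupp.singleAddHom (h ≫ g)).comp
    (AddMonoidHom.mk' (fun c => ULift.up (g.hom c.down)) fun a b => by
      refine ULift.ext _ _ ?_
      exact map_add g.hom a.down b.down)

lemma rvMap_single (E : Adeq.Alg A) {D D' : Adeq.Alg A} (g : D ⟶ D') (h : E ⟶ D) (c : ULift.{u + 1} (D : Type u)) :
    rvMap E g (Finsupp.single h c) = Finsupp.single (h ≫ g) (ULift.up (g.hom c.down)) := by
  rw [rvMap, Finsupp.liftAddHom_apply_single]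
  rfl

lemma rvMap_smul (E : Adeq.Alg A) {D D' : Adeq.Alg A} (g : D ⟶ D') (r : (D : Type u)) (x : RV E D) :
    rvMap E g (r • x) = g.hom r • rvMap E g x := by
  induction x using Finsupp.induction_linear with
  | zero => simp
  | add a b ha hb => rw [smul_add, map_add, map_add, smul_add, ha, hb]
  | single h c =>
    rw [Finsupp.smul_single, rvMap_single, rvMap_single, Finsupp.smul_single]
    congr 1
    exact ULift.ext _ _ (map_mul g.hom r c.down)

/-- The free module-valued functor on the functor represented by `E`. -/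
def rep (E : Adeq.Alg A) : Adeq.MVF A where
  obj X := ModuleCat.of ((Adeq.ringOf A).obj X) (RV E X.unop.unop)
  map {X Y} f := ModuleCat.ofHom
      (Y := (ModuleCat.restrictScalars ((Adeq.ringOf A).map f).hom).obj
        (ModuleCat.of ((Adeq.ringOf A).obj Y) (RV E Y.unop.unop)))
    { toFun := rvMap E f.unop.unop
      map_add' := map_add _
      map_smul' := rvMap_smul E f.unop.unop }
  map_id X := ModuleCat.hom_ext (LinearMap.ext fun x => by
    show rvMap E (𝟙 X.unop.unop) x = x
    induction x using Finsupp.induction_linear with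
    | zero => exact map_zero _
    | add a b ha hb => exact (map_add _ a b).trans (congrArg₂ (· + ·) ha hb)
    | single h c => rw [rvMap_single, Category.comp_id]; rfl)
  map_comp {X Y Z} f g := ModuleCat.hom_ext (LinearMap.ext fun x => by
    show rvMap E (f.unop.unop ≫ g.unop.unop) x = rvMap E g.unop.unop (rvMap E f.unop.unop x)
    induction x using Finsupp.induction_linear with
    | zero => simp only [map_zero]
    | add a b ha hb => simp only [map_add, ha, hb]
    | single h c => rw [rvMap_single, rvMap_single, rvMap_single, ← Category.assoc]; rfl)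

/-- linear combination -/
def rvDesc (F : Adeq.MVF A) {E : Adeq.Alg A} (y : F.obj (Adeq.pt E)) (D : Adeq.Alg A) :
    RV E D →ₗ[(D : Type u)] F.obj (Adeq.pt D) :=
  Finsupp.lsum ℕ fun h => (LinearMap.toSpanSingleton (D : Type u) _ (F.map (Adeq.ptHom h) y)).comp
    ULift.moduleEquiv.toLinearMap

lemma rvDesc_single (F : Adeq.MVF A) {E : Adeq.Alg A} (y : F.obj (Adeq.pt E)) (D : Adeq.Alg A)
    (h : E ⟶ D) (c : ULift.{u + 1} (D : Type u)) :
    rvDesc F y D (Finsupp.single h c) = c.down • (F.map (Adeq.ptHom h) y : F.obj (Adeq.pt D)) := by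
  rw [rvDesc, Finsupp.lsum_single]
  rfl

/-- The morphism out of the free functor attached to a value. -/
def repDesc (F : Adeq.MVF A) {E : Adeq.Alg A} (y : F.obj (Adeq.pt E)) : rep E ⟶ F :=
  PresheafOfModules.Hom.mk (fun X => ModuleCat.ofHom (X := RV E X.unop.unop) (Y := F.obj X) (rvDesc F y X.unop.unop))
    (fun {X Y} f => ModuleCat.hom_ext (LinearMap.ext fun x => by
      show rvDesc F y Y.unop.unop (rvMap E f.unop.unop x) = F.map f (rvDesc F y X.unop.unop x)
      induction x using Finsupp.induction_linear with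
      | zero =>
        refine Eq.trans ?_ ((congrArg (F.map f) (map_zero (rvDesc F y X.unop.unop))).trans (map_zero _)).symm
        exact (congrArg (rvDesc F y Y.unop.unop) (map_zero (rvMap E f.unop.unop))).trans (map_zero _)
      | add a b ha hb =>
        refine Eq.trans ?_ ((congrArg (F.map f) (map_add (rvDesc F y X.unop.unop) a b)).trans (map_add _ _ _)).symm
        exact ((congrArg (rvDesc F y Y.unop.unop) (map_add (rvMap E f.unop.unop) a b)).trans (map_add _ _ _)).trans
          (congrArg₂ (· + ·) ha hb)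
      | single h c =>
        rw [rvMap_single, rvDesc_single, rvDesc_single]
        refine Eq.trans ?_ (map_smul (F.map f).hom c.down (F.map (Adeq.ptHom h) y)).symm
        exact congrArg (f.unop.unop.hom c.down • ·) (F.map_comp_apply (Adeq.ptHom h) f y)))

/-- precomposition -/
def repMap {E E' : Adeq.Alg A} (p : E ⟶ E') : rep E' ⟶ rep E :=
  repDesc (rep E) (Finsupp.single p (ULift.up 1) : RV E E')

lemma repMap_app {E E' : Adeq.Alg A} (p : E ⟶ E') (D : Adeq.Alg A) (x : RV E' D) :
    (repMap p).app (Adeq.pt D) x = Finsupp.mapDomain (p ≫ ·) x := by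
  show rvDesc (rep E) (Finsupp.single p (ULift.up 1) : RV E E') D x = _
  induction x using Finsupp.induction_linear with
  | zero => exact (map_zero _).trans Finsupp.mapDomain_zero.symm
  | add a b ha hb => exact ((map_add _ a b).trans (congrArg₂ (· + ·) ha hb)).trans Finsupp.mapDomain_add.symm
  | single h c =>
    rw [rvDesc_single, Finsupp.mapDomain_single]
    show c.down • rvMap E h (Finsupp.single p (ULift.up 1)) = _
    rw [rvMap_single, Finsupp.smul_single]
    congr 1
    refine ULift.ext _ _ ?_
    show c.down * h.hom 1 = c.down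
    rw [map_one, mul_one]

/-- An injective functor turns surjections of algebras into surjections. -/
theorem surjective_of_injective (I : Adeq.MVF A) [Injective I] {E E' : Adeq.Alg A} (p : E ⟶ E') [Epi p] :
    Function.Surjective (I.map (Adeq.ptHom p)) := by
  intro y₀
  let y : ↑(I.obj (Adeq.pt E')) := y₀
  show ∃ a, I.map (Adeq.ptHom p) a = y
  haveI : Mono (repMap p) := by
    refine ⟨fun {Z} φ ψ hφ => PresheafOfModules.hom_ext fun {X} => ModuleCat.hom_ext (LinearMap.ext fun z => ?_)⟩
    have hab : (repMap p).app X (φ.app X z) = (repMap p).app X (ψ.app X z) :=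
      DFunLike.congr_fun (congrArg ModuleCat.Hom.hom (congrArg (fun χ : Z ⟶ rep E => χ.app X) hφ)) z
    have h : Finsupp.mapDomain (p ≫ ·) (φ.app X z : RV E' X.unop.unop) =
        Finsupp.mapDomain (p ≫ ·) (ψ.app X z : RV E' X.unop.unop) :=
      (repMap_app p X.unop.unop _).symm.trans (hab.trans (repMap_app p X.unop.unop _))
    exact Finsupp.mapDomain_injective (fun _ _ hh => (cancel_epi p).mp hh) h
  obtain ⟨ψ, hψ⟩ := Injective.factors (repDesc I y) (repMap p)
  refine ⟨ψ.app (Adeq.pt E) (Finsupp.single (𝟙 E) (ULift.up 1) : RV E E), ?_⟩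
  refine (PresheafOfModules.naturality_apply ψ (Adeq.ptHom p) _).symm.trans ?_
  have h1 : rvMap E p (Finsupp.single (𝟙 E) (ULift.up 1)) =
      ((repMap p).app (Adeq.pt E') (Finsupp.single (𝟙 E') (ULift.up 1) : RV E' E') : RV E E') := by
    refine Eq.trans ?_ (repMap_app p E' _).symm
    rw [rvMap_single, Finsupp.mapDomain_single, Category.id_comp, Category.comp_id]
    congr 1
    exact ULift.ext _ _ (map_one p.hom)
  refine (congrArg (ψ.app (Adeq.pt E')) h1).trans ?_
  refine (DFunLike.congr_fun (congrArg ModuleCat.Hom.hom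
    (congrArg (fun φ : rep E' ⟶ I => φ.app (Adeq.pt E')) hψ)) _).trans ?_
  refine (rvDesc_single I y E' (𝟙 E') (ULift.up 1)).trans ((one_smul _ _).trans ?_)
  exact DFunLike.congr_fun (congrArg ModuleCat.Hom.hom (I.map_id (Adeq.pt E'))) y

theorem tangentMap_surjective (I : Adeq.MVF A) [Injective I] (B : Adeq.Alg A) {N N' : ModuleCat.{u} B}
    (g : N ⟶ N') (hg : Function.Surjective g) : Function.Surjective (tangentMap B I g) := by
  haveI : Epi (AdeqTF.map B g) := ⟨fun φ ψ h => by
    apply CommAlgCat.hom_ext
    refine AlgHom.ext fun x => ?_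
    obtain ⟨n, hn⟩ := hg x.snd
    have h2 := DFunLike.congr_fun (congrArg CommAlgCat.Hom.hom h) (TrivSqZeroExt.inl x.fst + TrivSqZeroExt.inr n)
    have h3 : TrivSqZeroExt.map g.hom (TrivSqZeroExt.inl x.fst + TrivSqZeroExt.inr n) = x := by
      rw [map_add, TrivSqZeroExt.map_inl, TrivSqZeroExt.map_inr]
      refine TrivSqZeroExt.ext ?_ ?_ <;> simp [hn]
    rw [← h3]
    exact h2⟩
  rintro ⟨y, hy⟩
  obtain ⟨x, hx⟩ := surjective_of_injective I (AdeqTF.map B g) y
  have hfx : I.map (Adeq.ptHom (fst B N)) x = 0 := by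
    have e : Adeq.ptHom (AdeqTF.map B g) ≫ Adeq.ptHom (fst B N') = Adeq.ptHom (fst B N) :=
      congrArg Adeq.ptHom (map_fst B g)
    rw [← I.congr_map_apply e, I.map_comp_apply, hx]
    exact hy
  exact ⟨⟨x, hfx⟩, Subtype.ext hx⟩

end Groth.Agent.AdeqTFLib
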